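import Cfsg.Agent.Lib.FusionProdR.Basic
import Cfsg.Agent.Lib.FusionNormalCent.Normal
import Cfsg.Agent.Lib.Fusion.LocalModel
import Cfsg.Agent.Lib.FusionProduct.NormalTools

/-
Systems of `p`-power index in the centralizer of a normal subsystem are normal; the centralizer of a normal
subgroup is normal.
Main results (namespace `Cfsg.Agent.FusionBalance`): `normal_of_cent`, `centralizer_normal`.
-/

set_option autoImplicit false

namespace Cfsg.Agent.FusionBalance

open Cfsg Cfsg.Agent.Fusion Cfsg.Agent.FusionNormalCent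
open Cfsg.FusionSystem hiding inv_mem

variable {Ω : Type*} [Group Ω] {S T : Subgroup Ω} {F : FusionSystem S} {E : FusionSystem T} {p : ℕ}
  [Finite S] [Fact p.Prime]

/-- A saturated system of `p`-power index in `C_F(T)` over `C_S(E)` is normal in `F`. -/
theorem normal_of_cent_self (hS : IsPGroup p S) (hF : F.IsSaturated p) (hE : E.IsNormalIn F p)
    {C : FusionSystem (centralizerIn S T)} (hCs : C.IsSaturated p) (hC : F.IsCentralizerSystem T C)
    {K : FusionSystem (cent F E p hE.1.2.2)} (hKs : K.IsSaturated p) (hKi : K.HasPPowerIndexIn C p) :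
    K.IsNormalIn F p := by
  have hYS : cent F E p hE.1.2.2 ≤ S := (cent_le hE).trans inf_le_left
  refine ⟨⟨hKs, hF, FusionProduct.isInvariantIn_of_fn (fun P φ hφ => centralizer_le hC P (hKi.1 P hφ))
    (stronglyClosed_cent hS hF hE) (fun P f _ hf α hα => transport_cent hS hF hE hC hKs hKi hα hf)
    fun P f hP hf => frattini_cent hS hF hE hC hCs hKs hKi hP hf⟩, fun α hα => ?_⟩
  obtain ⟨b, hb, hb1, hb2⟩ := extension_cent hS hF hE hC hCs hKs hKi hα
  obtain ⟨β, hβ, hβe⟩ := exists_aut_of_isIso hb
  refine ⟨β, hβ, fun x => ?_, fun c hc => ?_⟩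
  · refine (hβe _).trans ((hb1 x x.2).trans ?_)
    rw [autFn_apply α x.2]
  · exact (hβe c).symm ▸ hb2 c hc

/-- The same, for a group equal to `C_S(E)`. -/
theorem normal_of_cent (hS : IsPGroup p S) (hF : F.IsSaturated p) (hE : E.IsNormalIn F p)
    {C : FusionSystem (centralizerIn S T)} (hCs : C.IsSaturated p) (hC : F.IsCentralizerSystem T C)
    {Z : Subgroup Ω} (e : cent F E p hE.1.2.2 = Z) {K : FusionSystem Z} (hKs : K.IsSaturated p)
    (hKi : K.HasPPowerIndexIn C p) : K.IsNormalIn F p := by
  subst e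
  exact normal_of_cent_self hS hF hE hCs hC hKs hKi

/-- The centralizer system of a normal subgroup is normal. -/
theorem centralizer_normal (hS : IsPGroup p S) (hF : F.IsSaturated p) {Y : Subgroup Ω} (hY : F.IsNormal Y)
    {K : FusionSystem (centralizerIn S Y)} (hKs : K.IsSaturated p) (hK : F.IsCentralizerSystem Y K) :
    K.IsNormalIn F p := by
  have hI := FusionProduct.isNormalIn_inner hS hF hY
  refine normal_of_cent hS hF hI hKs hK (le_antisymm (cent_le hI)
    (centralizes_le_cent hI hS hF ⟨le_rfl, fun P f hf => ?_⟩)) hKs (FusionPIndex.pPowerIndex_self K)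
  obtain ⟨hP, g, hg, e⟩ := isMap_inner_iff.1 hf
  refine ⟨fun z => g * z * g⁻¹, Fusion.IsMap.conj (sup_le (hP.trans hY.1) inf_le_left) (hY.1 hg),
    fun x hx => (e x hx).symm, fun y hy => ?_⟩
  show g * y * g⁻¹ = y
  have h1 := centralizerIn_conj hy hg
  calc g * y * g⁻¹ = y * g * y⁻¹ * y * g⁻¹ := by rw [h1]
    _ = y := by group

end Cfsg.Agent.FusionBalance
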