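import Cfsg.Agent.Lib.FusionProdR.Sat
import Cfsg.Agent.Lib.Fusion.LocalModel
import Cfsg.Agent.Lib.FusionProduct.NormalTools

/-
The normalizer of `Y` in the product of a normal subsystem with `Y` gives a normal subsystem of `N_F(Y)`.
Main results (namespace `Cfsg.Agent.FusionBalance`): `fullyNormalized_prod`, `exists_normalizer_normal`.
-/

set_option autoImplicit false
set_option linter.unusedSectionVars false

namespace Cfsg.Agent.FusionBalance

open Cfsg Cfsg.Agent.Fusion Cfsg.Agent.FusionProdR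
open Cfsg.FusionSystem hiding inv_mem
open scoped Pointwise

variable {Ω : Type*} [Group Ω] {S T : Subgroup Ω} {F : FusionSystem S} {E : FusionSystem T} {p : ℕ}
  [Finite S] [Fact p.Prime] (h : PSys F p E) {Y : Subgroup Ω} (hY : F.IsFullyNormalized Y)

include h hY

theorem prod_le : T ⊔ Y ≤ S := sup_le h.T_le hY.1

omit hY in
theorem exists_mul {Q : Subgroup Ω} (hQ : Q ≤ S) {x : Ω} (hx : x ∈ T ⊔ Q) :
    ∃ t ∈ T, ∃ y ∈ Q, t * y = x := by
  have hn : Q ≤ Subgroup.normalizer (T : Set Ω) :=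
    hQ.trans (Fusion.normalizes_of_stronglyClosed h.cT)
  rwa [← SetLike.mem_coe, Subgroup.coe_mul_of_right_le_normalizer_left T Q hn] at hx

/-- A map of the product keeps `T Y`. -/
theorem img_sup {f : Ω → Ω} (hf : PGen F p E (T ⊔ Y) (T ⊔ Y) 0 Y f) : img f Y ⊔ T = T ⊔ Y := by
  have hRS := prod_le h hY
  obtain ⟨r, hr, d, hd, he⟩ := h.decomp hRS le_sup_left hf
  have hA := amb_self (F := F) (p := p) (E := E) (sup_le hY.1 h.T_le) (le_sup_right : T ≤ Y ⊔ T)
  have hdm := hd.isMap hA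
  have hdR : img d Y ⊔ T = T ⊔ Y := by
    rw [PSys.img_supT_of_disp h hdm (h.disp (sup_le hY.1 h.T_le) le_sup_right hd).1, sup_comm]
  have hc : IsMap F (img d Y ⊔ T) (fun x => r * x * r⁻¹) :=
    Fusion.IsMap.conj (hdR.le.trans hRS) (hRS hr)
  have e : img f Y = img (fun x => r * x * r⁻¹) (img d Y) := by
    rw [img_congr (g := fun x => r * d x * r⁻¹) fun x hx => he x hx]
    refine le_antisymm ((Subgroup.closure_le _).2 ?_)
      (hc.img_le le_sup_left fun z hz => ?_)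
    · rintro _ ⟨x, hx, rfl⟩
      exact hc.mem_img (hdm.mem_img hx)
    · obtain ⟨x, hx, rfl⟩ := (hdm.mem_img_iff le_rfl).1 hz
      exact Subgroup.subset_closure ⟨x, hx, rfl⟩
  rw [e, ← h.img_supT hc, hdR]
  have hc' : IsMap F (T ⊔ Y) (fun x => r * x * r⁻¹) := Fusion.IsMap.conj hRS (hRS hr)
  exact eq_of_le_of_card hRS (hc'.img_le le_rfl fun x hx => mul_mem (mul_mem hr hx) (inv_mem hr))
    (hc'.card_img le_rfl).ge

/-- `Y` is fully normalised in the product. -/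
theorem fullyNormalized_prod :
    (prodSys F p E (prod_le h hY) 0).IsFullyNormalized Y := by
  refine ⟨le_sup_right, fun Y₁ hY₁ => ?_⟩
  obtain ⟨g, hg⟩ := isConj_iff.1 hY₁
  have hsup : Y₁ ⊔ T = T ⊔ Y := by
    rw [← hg.2]
    exact img_sup h hY (isMap_prodSys.1 hg.1)
  have hY₁S : Y₁ ≤ S := hg.le_right.trans (prod_le h hY)
  obtain ⟨f, hf, hfY, hfN⟩ := exists_normalizer_map h.pgroup
    (fullyAutomized_of_fullyNormalized h.pgroup h.sat hY)
    (receptive_of_fullyNormalized h.pgroup h.sat hY)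
    (isConj_symm (isConj_iff.2 ⟨g, FusionNormal.isIso_of_sub prodSys_sub hg⟩) : F.IsConj Y₁ Y)
  have hle : normalizerIn (T ⊔ Y) Y₁ ≤ normalizerIn S Y₁ := inf_le_inf_right _ (prod_le h hY)
  rw [← hf.card_img hle]
  have := finite_of_le (S := S) (P := normalizerIn (T ⊔ Y) Y) (inf_le_left.trans (prod_le h hY))
  refine Subgroup.card_le_of_le (hf.img_le hle fun x hx => ⟨?_, (hfN x (hle hx)).2⟩)
  obtain ⟨t, ht, y, hy, e⟩ := exists_mul h hY₁S (by rw [sup_comm, hsup]; exact hx.1 : x ∈ T ⊔ Y₁)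
  have hyN : y ∈ normalizerIn S Y₁ := le_normalizerIn hY₁S hy
  have htN : t ∈ normalizerIn S Y₁ := by
    have h2 := (normalizerIn S Y₁).mul_mem (hle hx) ((normalizerIn S Y₁).inv_mem hyN)
    rwa [← e, mul_inv_cancel_right] at h2
  rw [← e, hf.map_mul htN hyN]
  exact mul_mem (Subgroup.mem_sup_left (h.map_T hf htN ht))
    (Subgroup.mem_sup_right (hfY ▸ hf.mem_img hy))

variable {N : FusionSystem (normalizerIn S Y)} (hN : F.IsNormalizerSystem Y N)

include hN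

/-- `N_D(Y)`, for `D` the product with `Y`, is weakly normal in `N_F(Y)`. -/
theorem weaklyNormal_normalizer {M : FusionSystem (normalizerIn (T ⊔ Y) Y)}
    (hM : (prodSys F p E (prod_le h hY) 0).IsNormalizerSystem Y M) : M.IsWeaklyNormalIn N p := by
  have hRS := prod_le h hY
  set D := prodSys F p E hRS 0
  have := finite_of_le hRS
  have hRp : IsPGroup p ↥(T ⊔ Y) := h.pgroup.to_le hRS
  have hYR : Y ≤ T ⊔ Y := le_sup_right
  have hYn := fullyNormalized_prod h hY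
  have hDs : D.IsSaturated p := h.isSaturated le_sup_left hRS
  have hVS : (normalizerIn (T ⊔ Y) Y) ≤ S := inf_le_left.trans hRS
  have hVN : (normalizerIn (T ⊔ Y) Y) ≤ normalizerIn S Y := inf_le_inf_right _ hRS
  have hYV : Y ≤ (normalizerIn (T ⊔ Y) Y) := le_normalizerIn hYR
  have hVT : (normalizerIn (T ⊔ Y) Y) ⊔ T = T ⊔ Y :=
    le_antisymm (sup_le inf_le_left le_sup_left) (sup_le le_sup_right (hYV.trans le_sup_left))
  have hNiff := fun {P : Subgroup Ω} {f : Ω → Ω} => isMap_normalizer_iff (P := P) (f := f) hY.1 hN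
  have hMiff := fun {P : Subgroup Ω} {f : Ω → Ω} => isMap_normalizer_iff (P := P) (f := f) hYR hM
  have hsub : M.IsSubsystemOf N := fun P φ hφ => by
    refine mem_of_isMap ?_ fun x => (toFn_coe φ x).symm
    obtain ⟨hP, hf, f', hf', e, hfY⟩ := hMiff.1 (isMap_toFn hφ)
    exact hNiff.2 ⟨hP.trans hVN, fun x hx => hVN (hf x hx), f',
      FusionNormal.isMap_of_sub prodSys_sub hf', e, hfY⟩
  -- maps of `N` keep `(normalizerIn (T ⊔ Y) Y)`
  have hclF : ∀ {Q : Subgroup Ω} {f : Ω → Ω}, IsMap F Q f → Y ≤ Q → (∀ y ∈ Y, f y ∈ Y) →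
      ∀ x ∈ Q, x ∈ T ⊔ Y → f x ∈ T ⊔ Y := fun hf hYQ hfY x hx hxR => by
    obtain ⟨t, ht, y, hy, e⟩ := exists_mul h hY.1 hxR
    have htQ := mul_mem hx (inv_mem (hYQ hy))
    rw [← e, mul_inv_cancel_right] at htQ
    rw [← e, hf.map_mul htQ (hYQ hy)]
    exact mul_mem (Subgroup.mem_sup_left (h.map_T hf htQ ht)) (Subgroup.mem_sup_right (hfY y hy))
  have hclN : N.StronglyClosed (normalizerIn (T ⊔ Y) Y) := by
    refine Fusion.stronglyClosed_iff.2 ⟨hVN, fun P f hf x hxP hx => ?_⟩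
    obtain ⟨-, hfN, f', hf', e, hfY⟩ := hNiff.1 hf
    refine ⟨?_, (hfN x hxP).2⟩
    rw [← e x hxP]
    exact hclF hf' le_sup_right hfY x (Subgroup.mem_sup_left hxP) hx.1
  refine ⟨isSaturated_normalizer hRp hDs hYn hM,
    isSaturated_normalizer h.pgroup h.sat hY hN,
    FusionProduct.isInvariantIn_of_fn hsub hclN (fun P f hP hf α hα => ?_) fun P f hP hf => ?_⟩
  · -- invariance
    obtain ⟨-, hαN, α', hα', hαe, hαY⟩ := hNiff.1 ((mem_autGroup_iff hVN).1 hα)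
    have hαm : IsMap F (normalizerIn (T ⊔ Y) Y) (autFn α) := (hα'.mono le_sup_left).congr hαe
    have hαY' : ∀ y ∈ Y, autFn α y ∈ Y := fun y hy => hαe y (hYV hy) ▸ hαY y hy
    obtain ⟨γ, hγ, d, hd, he⟩ := h.frattini hαm
    rw [hVT] at hγ hd
    have hA := amb_self (F := F) (p := p) (E := E) hRS (le_sup_left : T ≤ T ⊔ Y)
    have hdm := hd.isMap hA
    have hdR : img d (normalizerIn (T ⊔ Y) Y) ⊔ T = T ⊔ Y := by
      rw [PSys.img_supT_of_disp h hdm (h.disp hRS le_sup_left hd).1, hVT]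
    have hdV : img d (normalizerIn (T ⊔ Y) Y) ≤ T ⊔ Y := le_sup_left.trans hdR.le
    have hγR : IsIso F (T ⊔ Y) (T ⊔ Y) γ := by
      refine ⟨hγ, ?_⟩
      have hγ' : IsMap F (img d (normalizerIn (T ⊔ Y) Y) ⊔ T) γ := hdR.symm ▸ hγ
      have e : img γ (img d (normalizerIn (T ⊔ Y) Y)) = img (autFn α) (normalizerIn (T ⊔ Y) Y) := by
        refine IsIso.img_eq_of hγ hdV (fun y hy => ?_) fun z hz => ?_
        · obtain ⟨x, hx, rfl⟩ := (hdm.mem_img_iff le_rfl).1 hy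
          rw [← he x hx]
          exact hαm.mem_img hx
        · obtain ⟨x, hx, rfl⟩ := (hαm.mem_img_iff le_rfl).1 hz
          exact ⟨d x, hdm.mem_img hx, (he x hx).symm⟩
      conv_lhs => rw [← hdR]
      have eV : img (autFn α) (normalizerIn (T ⊔ Y) Y) = (normalizerIn (T ⊔ Y) Y) := eq_of_le_of_card hVS (hαm.img_le le_rfl fun x hx => autFn_mem α hx)
        (hαm.card_img le_rfl).ge
      rw [h.img_supT hγ', e, eV, hVT]
    obtain ⟨γi, hγi, hγl, -⟩ := hγR.symm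
    have hdD : IsMap D (normalizerIn (T ⊔ Y) Y) d := isMap_prodSys.2 (hd.enlarge le_rfl le_sup_left)
    obtain ⟨di, hdi, hdil, -⟩ := hdD.isIso.symm
    obtain ⟨hPV, hfV, f', hf', hfe, hfY⟩ := hMiff.1 hf
    set Q := P ⊔ Y
    have hQV : Q ≤ (normalizerIn (T ⊔ Y) Y) := sup_le hP hYV
    have hf'V : ∀ x ∈ Q, f' x ∈ (normalizerIn (T ⊔ Y) Y) := fun x hx => hf'.forall_mem_sup le_sup_left le_sup_right
      (fun y hy => hfe y hy ▸ hfV y hy) (fun y hy => hYV (hfY y hy)) hx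
    set Q' := img d Q
    have hQ'd : Q' ≤ img d (normalizerIn (T ⊔ Y) Y) := hdD.img_le hQV fun x hx => hdD.mem_img (hQV hx)
    set g₀ := fun x => d (f' (di x))
    have hdiQ : ∀ x ∈ Q', di x ∈ Q := fun x hx => by
      obtain ⟨z, hz, rfl⟩ := (hdD.mem_img_iff hQV).1 hx
      rwa [hdil z (hQV hz)]
    have hg₀ : IsMap D Q' g₀ := ((hdi.1.mono hQ'd).comp hf' hdiQ).comp hdD fun x hx => hf'V _ (hdiQ x hx)
    set g := fun y => γ (g₀ (γi y))
    have hg : IsMap D (img γ Q') g := isMap_prodSys.2 (h.transport hRS le_rfl le_rfl hγR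
      (fun r hr => hγR.mem hr) (isMap_prodSys.1 hg₀) g fun x hx => by
        show γ (g₀ (γi (γ x))) = _
        rw [hγl x (hQ'd.trans hdV hx)])
    have hmem : ∀ x ∈ Q, autFn α x ∈ img γ Q' := fun x hx => by
      rw [he x (hQV hx)]
      exact Subgroup.subset_closure ⟨d x, (hdD.mono hQV).mem_img hx, rfl⟩
    have hgval : ∀ x ∈ Q, g (autFn α x) = autFn α (f' x) := fun x hx => by
      show γ (d (f' (di (γi (autFn α x))))) = _
      rw [he x (hQV hx), hγl _ (hdV (hdD.mem_img (hQV hx))), hdil x (hQV hx), ← he _ (hf'V x hx)]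
    have hαP : ∀ z ∈ img (autFn α) P, ∃ x ∈ P, autFn α x = z := fun z hz => (hαm.mem_img_iff hP).1 hz
    have hYim : ∀ y ∈ Y, ∃ y₀ ∈ Y, autFn α y₀ = y := fun y hy => by
      have e : img (autFn α) Y = Y := eq_of_le_of_card hY.1
        (hαm.img_le hYV hαY') (hαm.card_img hYV).ge
      exact (hαm.mem_img_iff hYV).1 (e.symm ▸ hy)
    have hle : img (autFn α) P ⊔ Y ≤ img γ Q' := sup_le
      (fun z hz => by
        obtain ⟨x, hx, rfl⟩ := hαP z hz
        exact hmem x (Subgroup.mem_sup_left hx))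
      fun y hy => by
        obtain ⟨y₀, hy₀, rfl⟩ := hYim y hy
        exact hmem y₀ (Subgroup.mem_sup_right hy₀)
    refine ⟨g, hMiff.2 ⟨hαm.img_le hP fun x hx => autFn_mem α (hP hx), fun z hz => ?_, g,
      hg.mono hle, fun _ _ => rfl, fun y hy => ?_⟩, fun x hx => ?_⟩
    · obtain ⟨x, hx, rfl⟩ := hαP z hz
      rw [hgval x (Subgroup.mem_sup_left hx)]
      exact autFn_mem α (hf'V x (Subgroup.mem_sup_left hx))
    · obtain ⟨y₀, hy₀, rfl⟩ := hYim y hy
      rw [hgval y₀ (Subgroup.mem_sup_right hy₀)]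
      exact hαY' _ (hfY y₀ hy₀)
    · rw [hgval x (Subgroup.mem_sup_left hx), hfe x hx]
  · -- Frattini
    obtain ⟨-, hfN, f', hf', hfe, hfY⟩ := hNiff.1 hf
    set Q := P ⊔ Y
    have hQV : Q ≤ (normalizerIn (T ⊔ Y) Y) := sup_le hP hYV
    have hQT : Q ⊔ T = T ⊔ Y := le_antisymm (sup_le (hQV.trans inf_le_left) le_sup_left)
      (sup_le le_sup_right (le_sup_right.trans le_sup_left))
    have hf'R : ∀ x ∈ Q, f' x ∈ T ⊔ Y := fun x hx => hclF hf' le_sup_right hfY x hx (hQV hx).1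
    have hfY' : img f' Y = Y :=
      eq_of_le_of_card hY.1 (hf'.img_le le_sup_right hfY) (hf'.card_img le_sup_right).ge
    obtain ⟨γ, hγ, d, hd, he⟩ := h.frattini hf'
    rw [hQT] at hγ hd
    have hA := amb_self (F := F) (p := p) (E := E) hRS (le_sup_left : T ≤ T ⊔ Y)
    have hdm := hd.isMap hA
    have hdR : img d Q ⊔ T = T ⊔ Y := by
      rw [PSys.img_supT_of_disp h hdm (h.disp hRS le_sup_left hd).1, hQT]
    have hdQ : img d Q ≤ T ⊔ Y := le_sup_left.trans hdR.le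
    have hdD : IsMap D Q d := isMap_prodSys.2 (hd.enlarge le_rfl le_sup_left)
    have hγR : IsIso F (T ⊔ Y) (T ⊔ Y) γ := by
      refine ⟨hγ, ?_⟩
      have hγ' : IsMap F (img d Q ⊔ T) γ := hdR.symm ▸ hγ
      have e : img γ (img d Q) = img f' Q := by
        refine IsIso.img_eq_of hγ hdQ (fun y hy => ?_) fun z hz => ?_
        · obtain ⟨x, hx, rfl⟩ := (hdm.mem_img_iff le_rfl).1 hy
          rw [← he x hx]
          exact hf'.mem_img hx
        · obtain ⟨x, hx, rfl⟩ := (hf'.mem_img_iff le_rfl).1 hz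
          exact ⟨d x, hdm.mem_img hx, (he x hx).symm⟩
      conv_lhs => rw [← hdR]
      rw [h.img_supT hγ', e]
      refine le_antisymm (sup_le (hf'.img_le le_rfl hf'R) le_sup_left)
        (sup_le le_sup_right (le_trans ?_ le_sup_left))
      exact hfY'.ge.trans (hf'.img_le le_sup_right fun y hy => hf'.mem_img (Subgroup.mem_sup_right hy))
    set Y₁ := img d Y
    have hY₁R : Y₁ ≤ T ⊔ Y := hdm.img_le le_sup_right fun y hy => hdQ (hdm.mem_img (Subgroup.mem_sup_right hy))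
    have hγY : img γ Y₁ = Y := by
      refine IsIso.img_eq_of hγ hY₁R (fun z hz => ?_) fun y hy => ?_
      · obtain ⟨y, hy, rfl⟩ := (hdm.mem_img_iff le_sup_right).1 hz
        rw [← he y (Subgroup.mem_sup_right hy)]
        exact hfY y hy
      · obtain ⟨y₀, hy₀, rfl⟩ := (hf'.mem_img_iff le_sup_right).1 (hfY'.symm ▸ hy : y ∈ img f' Y)
        exact ⟨d y₀, (hdm.mono le_sup_right).mem_img hy₀, (he y₀ (Subgroup.mem_sup_right hy₀)).symm⟩
    have hconj : D.IsConj Y₁ Y :=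
      isConj_symm (isConj_iff.2 ⟨d, hdD.mono le_sup_right, rfl⟩)
    obtain ⟨k, hk, hkY, hkN⟩ := exists_normalizer_map hRp
      (fullyAutomized_of_fullyNormalized hRp hDs hYn) (receptive_of_fullyNormalized hRp hDs hYn) hconj
    set V₁ := normalizerIn (T ⊔ Y) Y₁
    have hV₁R : V₁ ≤ T ⊔ Y := inf_le_left
    have hcard : Nat.card (normalizerIn (T ⊔ Y) Y) ≤ Nat.card V₁ := by
      obtain ⟨γi, hγi, hγl, hγr⟩ := hγR.symm
      have hγiY : img γi Y = Y₁ := by
        refine IsIso.img_eq_of hγi.1 hYR (fun y hy => ?_) fun z hz =>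
          ⟨γ z, hγY ▸ (hγ.mono hY₁R).mem_img hz, hγl z (hY₁R hz)⟩
        obtain ⟨z, hz, rfl⟩ := (hγ.mem_img_iff hY₁R).1 (hγY.symm ▸ hy : y ∈ img γ Y₁)
        rwa [hγl z (hY₁R hz)]
      have hle : (normalizerIn (T ⊔ Y) Y) ≤ T ⊔ Y := inf_le_left
      rw [← hγi.1.card_img hle]
      have := finite_of_le (S := S) (P := V₁) (hV₁R.trans hRS)
      exact Subgroup.card_le_of_le (hγi.1.img_le hle fun x hx =>
        ⟨hγi.mem hx.1, (map_normalizerIn hγi.1 hYR hγiY hx.1 (hVN hx)).2⟩)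
    have hkI : IsIso D V₁ (normalizerIn (T ⊔ Y) Y) k := ⟨hk, eq_of_le_of_card (S := T ⊔ Y) inf_le_left (hk.img_le le_rfl hkN)
      (by rw [hk.card_img le_rfl]; exact hcard)⟩
    obtain ⟨ki, hki, hkl, hkr⟩ := hkI.symm
    have hm : IsMap F (normalizerIn (T ⊔ Y) Y) (fun x => γ (ki x)) :=
      (FusionNormal.isMap_of_sub prodSys_sub hki.1).comp hγ fun x hx => hV₁R (hki.mem hx)
    have hkiY : ∀ y ∈ Y, ki y ∈ Y₁ := fun y hy => by
      have hle : Y₁ ≤ V₁ := le_normalizerIn hY₁R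
      obtain ⟨z, hz, rfl⟩ := (hk.mem_img_iff hle).1 (hkY.symm ▸ hy : y ∈ img k Y₁)
      rwa [hkl z (hle hz)]
    have hmY : ∀ y ∈ Y, γ (ki y) ∈ Y := fun y hy => hγY ▸ (hγ.mono hY₁R).mem_img (hkiY y hy)
    have hmV : ∀ x ∈ (normalizerIn (T ⊔ Y) Y), γ (ki x) ∈ (normalizerIn (T ⊔ Y) Y) := fun x hx => ⟨hγR.mem (hV₁R (hki.mem hx)),
      (map_normalizerIn hm hYV (eq_of_le_of_card hY.1 (hm.img_le hYV hmY) (hm.card_img hYV).ge) hx
        (hVN hx)).2⟩
    obtain ⟨α, hα, hαe⟩ := exists_aut_of_isIso (show IsIso F (normalizerIn (T ⊔ Y) Y) (normalizerIn (T ⊔ Y) Y) (fun x => γ (ki x)) from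
      ⟨hm, eq_of_le_of_card hVS (hm.img_le le_rfl hmV) (hm.card_img le_rfl).ge⟩)
    have hαv : ∀ x ∈ (normalizerIn (T ⊔ Y) Y), autFn α x = γ (ki x) := fun x hx => (autFn_apply α hx).trans (hαe ⟨x, hx⟩)
    have hαN : α ∈ N.autGroup (normalizerIn (T ⊔ Y) Y) := (mem_autGroup_iff hVN).2 (hNiff.2 ⟨hVN,
      fun x hx => hVN (autFn_mem α hx), autFn α,
      ((mem_autGroup_iff hVS).1 hα).mono (sup_le le_rfl hYV), fun _ _ => rfl,
      fun y hy => by rw [hαv y (hYV hy)]; exact hmY y hy⟩)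
    have hdV₁ : ∀ x ∈ Q, d x ∈ V₁ := fun x hx =>
      ⟨hdQ (hdm.mem_img hx), (map_normalizerIn hdm le_sup_right rfl hx (hVN (hQV hx))).2⟩
    refine ⟨α, hαN, fun x => k (d x), hMiff.2 ⟨hP, fun x hx => hkI.mem (hdV₁ x (Subgroup.mem_sup_left hx)),
      fun x => k (d x), hdD.comp hk hdV₁, fun _ _ => rfl,
      fun y hy => hkY ▸ (hk.mono (le_normalizerIn hY₁R)).mem_img
        ((hdm.mono le_sup_right).mem_img hy)⟩, fun x hx => ?_⟩
    have hxQ : x ∈ Q := Subgroup.mem_sup_left hx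
    rw [hαv _ (hkI.mem (hdV₁ x hxQ)), hkl _ (hdV₁ x hxQ), ← he x hxQ, hfe x hx]

/-- A normal subsystem of `N_F(Y)` over `N_{TY}(Y)` inside the product. -/
theorem exists_normalizer_normal :
    ∃ M : FusionSystem (normalizerIn (T ⊔ Y) Y), M.IsNormalIn N p ∧
      M.IsSubsystemOf (prodSys F p E (prod_le h hY) 0) := by
  have hRS := prod_le h hY
  have := finite_of_le hRS
  obtain ⟨M, hM⟩ := exists_normalizerSystem (F := prodSys F p E hRS 0)
    (le_sup_right : Y ≤ T ⊔ Y)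
  have := finite_of_le (S := S) (P := normalizerIn S Y) inf_le_left
  have := finite_of_le (S := S) (P := normalizerIn (T ⊔ Y) Y) (inf_le_left.trans hRS)
  refine ⟨_, FusionCrit.isNormalIn_genSys (h.pgroup.to_le inf_le_left)
    (weaklyNormal_normalizer h hY hN hM), fun P φ hφ => ?_⟩
  have h1 := FusionCrit.TGen.isMap (FusionCrit.resA_le_autGroup M p) (FusionCrit.isMap_genSys.1 (isMap_toFn hφ))
  obtain ⟨-, -, f', hf', e, -⟩ := (isMap_normalizer_iff le_sup_right hM).1 h1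
  exact mem_of_isMap ((hf'.mono le_sup_left).congr e) fun x => (toFn_coe φ x).symm

end Cfsg.Agent.FusionBalance
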