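import Cfsg.Agent.Lib.FusionProdR.Residual
import Cfsg.Agent.Lib.FusionLayer.GFit

/-
Perfect subsystems whose elements of order prime to `p` come from a normal subsystem lie in it.
Main results (namespace `Cfsg.Agent.FusionBalance`): `sub_of_coprime`, `sub_of_prod`, `sub_layer_of_fitting`.
-/

set_option autoImplicit false
set_option linter.unusedSectionVars false

namespace Cfsg.Agent.FusionBalance

open Cfsg Cfsg.Agent.Fusion
open Cfsg.FusionSystem hiding inv_mem
open Cfsg.Agent.FusionCrit (autFn_mul autFn_inv_self autFn_self_inv)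

variable {Ω : Type*} [Group Ω] {S T U R : Subgroup Ω} {p : ℕ} [Finite S] [Fact p.Prime]
  {F : FusionSystem S} {C : FusionSystem T} {E : FusionSystem U}

/-- A perfect saturated system is inside `E` when its elements of order prime to `p` are. -/
theorem sub_of_coprime (hS : IsPGroup p S) (hTS : T ≤ S) (hC : C.IsSaturated p)
    (hhyp : C.hyperfocalSubgroup p = T) {H : Subgroup Ω} (hHU : H ≤ U)
    (hd : ∀ (P : Subgroup Ω) (α : MulAut P), P ≤ T → α ∈ C.autGroup P → (orderOf α).Coprime p →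
      ∀ x ∈ P, x⁻¹ * autFn α x ∈ H)
    (hm : ∀ (P : Subgroup Ω) (α : MulAut P), P ≤ T → P ≤ H → α ∈ C.autGroup P → (orderOf α).Coprime p →
      α ∈ E.autGroup P) :
    T ≤ H ∧ C.IsSubsystemOf E := by
  have hTH : T ≤ H := by
    refine hhyp.ge.trans ((Subgroup.closure_le _).2 ?_)
    rintro _ ⟨P, α, x, hP, hα, rfl⟩
    revert x
    refine Subgroup.closure_induction (fun a ha => ?_) (fun x => ?_) (fun a b _ _ ha hb x => ?_)
      (fun a _ ha x => ?_) hα
    · intro x
      have hac : (orderOf (a : MulAut P)).Coprime p := by rw [Subgroup.orderOf_coe]; exact ha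
      rw [← autFn_apply _ x.2]
      exact hd P _ hP a.2 hac x x.2
    · simp
    · have := H.mul_mem (hb x) (ha ((b : MulAut P) x))
      simpa [mul_assoc] using this
    · have := H.inv_mem (ha (((a : MulAut P)⁻¹) x))
      simpa [mul_assoc] using this
  refine ⟨hTH, fun _ φ hφ => mem_of_isMap ?_ fun x => (toFn_coe φ x).symm⟩
  have := finite_of_le hTS
  have hT : IsPGroup p T := hS.to_le hTS
  refine FusionNormal.isMap_of_autGroup hT hC E (fun P hP α hα => ?_) (isMap_toFn hφ)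
  have hPU : P ≤ U := hP.1.trans (hTH.trans hHU)
  have := finite_mulAut (S := T) hP.1
  exact (mem_autGroup_iff hPU).1 (FusionNormal.autGroup_le_of_sylow_pResidual (H := E.autGroup P)
    (isFullyAutomized_iff.1 (fullyAutomized_of_fullyNormalized hT hC hP)).2
    (autInducedBy_le_autGroup _ (hTH.trans hHU) hPU)
    (fun g hg hgc => hm P g hP.1 (hP.1.trans hTH) hg hgc) hα)

/-- A perfect subsystem of the product lies in the normal subsystem. -/
theorem sub_of_prod (h : FusionProdR.PSys F p E) (hUR : U ≤ R) (hRS : R ≤ S) (hC : C.IsSaturated p)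
    (hhyp : C.hyperfocalSubgroup p = T) (hsub : C.IsSubsystemOf (FusionProdR.prodSys F p E hRS 0)) :
    T ≤ E.hyperfocalSubgroup p ∧ C.IsSubsystemOf E := by
  have hTR : T ≤ R := FusionLayer.le_base_of_sub hsub
  have hA : ∀ (P : Subgroup Ω) (α : MulAut P), P ≤ T → α ∈ C.autGroup P → (orderOf α).Coprime p →
      α ∈ FusionProdR.Ac F E P := fun P α hP hα hc =>
    h.mem_Ac_of_gen hRS hUR (FusionProdR.isMap_prodSys.1
      (FusionNormal.isMap_of_sub hsub ((mem_autGroup_iff hP).1 hα))) hc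
  refine sub_of_coprime h.pgroup (hTR.trans hRS) hC hhyp (FusionChain.hyperfocalSubgroup_le p)
    (fun P α hP hα hc x hx => h.disp_hyperfocal ((hP.trans hTR).trans hRS) (hA P α hP hα hc) hc hx)
    fun P α hP hPH hα hc => ?_
  have hPU : P ≤ U := hPH.trans (FusionChain.hyperfocalSubgroup_le p)
  exact (mem_autGroup_iff hPU).2 ((hA P α hP hα hc).2.2.mono (le_inf le_rfl hPU))

/-- A perfect subsystem of the generalized Fitting subsystem lies in the layer. -/
theorem sub_layer_of_fitting (hS : IsPGroup p S) (hF : F.IsSaturated p) {L : FusionSystem R}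
    (hL : L.IsLayerOf F p) {D : FusionSystem (F.core ⊔ R)}
    (hD : FusionLayer.IsProd D (innerFusionSystem F.core) L) (hC : C.IsSaturated p)
    (hhyp : C.hyperfocalSubgroup p = T) (hsub : C.IsSubsystemOf D) : C.IsSubsystemOf L := by
  have hpair := FusionLayer.fitting_pair hS hF hL
  have hQS : F.core ≤ S := (S5145.result F).1
  have hRS : R ≤ S := hL.1.1.2.2.2.1.1
  have hTD : T ≤ F.core ⊔ R := FusionLayer.le_base_of_sub hsub
  have hTS : T ≤ S := hTD.trans (sup_le hQS hRS)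
  have := finite_of_le hRS
  -- the parts of an element of order prime to `p`
  have key : ∀ (P : Subgroup Ω) (α : MulAut P), P ≤ T → α ∈ C.autGroup P → (orderOf α).Coprime p →
      (∀ x ∈ P, x⁻¹ * autFn α x ∈ R) ∧ (P ≤ R → IsMap L P (autFn α)) := by
    intro P α hP hα hc
    obtain ⟨A, B, f₁, f₂, hf₁, hf₂, hA, hB, hcov, he, -, -⟩ :=
      hD.elim (FusionNormal.isMap_of_sub hsub ((mem_autGroup_iff hP).1 hα))
    obtain ⟨hAQ, g, hg, hge⟩ := isMap_inner_iff.1 hf₁
    have hgS : g ∈ S := hQS hg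
    have hnR : ∀ {s x : Ω}, s ∈ S → x ∈ R → s * x * s⁻¹ ∈ R := fun hs hx =>
      FusionChain.conj_mem_of_stronglyClosed hL.1.1.2.2.2.1 hs hx
    have hone : ∀ x ∈ P, (g * x * g⁻¹)⁻¹ * autFn α x ∈ R := fun x hx => by
      obtain ⟨a, ha, b, hb, rfl⟩ := hcov x hx
      have hbR : b ∈ R := hf₂.le hb
      rw [he a ha b hb hx, hge a ha,
        show (g * (a * b) * g⁻¹)⁻¹ * (g * a * g⁻¹ * f₂ b) = (g * b * g⁻¹)⁻¹ * f₂ b by group]
      exact R.mul_mem (R.inv_mem (hnR hgS hbR)) (hf₂.mem hb)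
    refine ⟨?_, fun hPR => ?_⟩
    · have hpow : ∀ (j : ℕ), ∀ x ∈ P, (g ^ j * x * (g ^ j)⁻¹)⁻¹ * autFn (α ^ j) x ∈ R := by
        intro j
        induction j with
        | zero => intro x hx; rw [autFn_apply _ hx]; simp
        | succ j ih =>
          intro x hx
          have hy := autFn_mem (α ^ j) hx
          rw [pow_succ' α, autFn_mul _ _ hx, pow_succ',
            show (g * g ^ j * x * (g * g ^ j)⁻¹)⁻¹ * autFn α (autFn (α ^ j) x) =
              (g * ((g ^ j * x * (g ^ j)⁻¹)⁻¹ * autFn (α ^ j) x) * g⁻¹) *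
                ((g * autFn (α ^ j) x * g⁻¹)⁻¹ * autFn α (autFn (α ^ j) x)) by group]
          exact R.mul_mem (hnR hgS (ih x hx)) (hone _ hy)
      let Cm : Subgroup Ω :=
        { carrier := {s | s ∈ S ∧ ∀ x ∈ P, x⁻¹ * (s * x * s⁻¹) ∈ R}
          one_mem' := ⟨S.one_mem, fun x _ => by simp⟩
          mul_mem' := fun {s s'} hs hs' => ⟨S.mul_mem hs.1 hs'.1, fun x hx => by
            rw [show x⁻¹ * (s * s' * x * (s * s')⁻¹) =
              (x⁻¹ * (s * x * s⁻¹)) * (s * (x⁻¹ * (s' * x * s'⁻¹)) * s⁻¹) by group]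
            exact R.mul_mem (hs.2 x hx) (hnR hs.1 (hs'.2 x hx))⟩
          inv_mem' := fun {s} hs => ⟨S.inv_mem hs.1, fun x hx => by
            rw [show x⁻¹ * (s⁻¹ * x * s⁻¹⁻¹) = (s⁻¹ * (x⁻¹ * (s * x * s⁻¹)) * s⁻¹⁻¹)⁻¹ by group]
            exact R.inv_mem (hnR (S.inv_mem hs.1) (hs.2 x hx))⟩ }
      have hgn : g ^ orderOf α ∈ Cm := ⟨S.pow_mem hgS _, fun x hx => by
        have h1 := hpow (orderOf α) x hx
        rw [pow_orderOf_eq_one, autFn_apply _ hx, MulAut.one_apply] at h1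
        simpa using R.inv_mem h1⟩
      obtain ⟨e, he'⟩ := hS ⟨g, hgS⟩
      have hgC := FusionNormal.pow_gcd_mem hgn (congrArg Subtype.val he' : g ^ p ^ e = 1)
      rw [(hc.pow_right e).gcd_eq_one, pow_one] at hgC
      intro x hx
      rw [show x⁻¹ * autFn α x = (x⁻¹ * (g * x * g⁻¹)) * ((g * x * g⁻¹)⁻¹ * autFn α x) by group]
      exact R.mul_mem (hgC.2 x hx) (hone x hx)
    · have hBR : B ≤ R := hf₂.le
      have hdec : ∀ x ∈ P, ∃ a ∈ A, ∃ b ∈ B, a ∈ F.core ⊓ R ∧ x = a * b := fun x hx => by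
        obtain ⟨a, ha, b, hb, e⟩ := hcov x hx
        refine ⟨a, ha, b, hb, Subgroup.mem_inf.2 ⟨hAQ ha, ?_⟩, e⟩
        rw [show a = x * b⁻¹ by rw [e]; group]
        exact R.mul_mem (hPR hx) (R.inv_mem (hBR hb))
      obtain ⟨k, hk, hke, hkfix⟩ := FusionLayer.fix_of_center hpair.z2 hf₂
      have hPd : P ≤ B ⊔ (F.core ⊓ R) := fun x hx => by
        obtain ⟨a, -, b, hb, haR, e⟩ := hdec x hx
        rw [e]
        exact mul_mem (Subgroup.mem_sup_right haR) (Subgroup.mem_sup_left hb)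
      refine (hk.mono hPd).congr fun x hx => ?_
      obtain ⟨a, ha, b, hb, haR, rfl⟩ := hdec x hx
      rw [hk.map_mul (Subgroup.mem_sup_right haR) (Subgroup.mem_sup_left hb), hke b hb, hkfix a haR,
        he a ha b hb hx, hge a ha,
        show g * a * g⁻¹ = a by rw [hpair.comm g hg a haR.2, mul_inv_cancel_right]]
  exact (sub_of_coprime hS hTS hC hhyp (le_refl R) (fun P α hP hα hc => (key P α hP hα hc).1)
    fun P α hP hPR hα hc => (mem_autGroup_iff hPR).2 ((key P α hP hα hc).2 hPR)).2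

end Cfsg.Agent.FusionBalance
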