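import Cfsg.Agent.Lib.FusionLayer.GFit
import Cfsg.Agent.Lib.FusionCrit.Pairs
import Cfsg.Agent.Lib.Fusion.PAut

/-
Centralizer systems of conjugate subgroups, and transfer of subsystems of an invariant subsystem.
Main results (namespace `Cfsg.Agent.FusionBalance`): `exists_centralizer_fn`, `component_congr`,
`sub_of_transfer`, `centralizer_fiso`.
-/

set_option autoImplicit false

namespace Cfsg.Agent.FusionBalance

open Cfsg Cfsg.Agent.Fusion Cfsg.Agent.FusionNormalCent
open Cfsg.FusionSystem hiding inv_mem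
open Cfsg.Agent.FusionCrit (autFn_inv_self)

variable {Ω : Type*} [Group Ω] {S R T T' A B : Subgroup Ω} {F : FusionSystem S} {p : ℕ}

theorem hom_eq_of_isMap {G : FusionSystem A} {H : FusionSystem B}
    (h : ∀ P f, IsMap G P f ↔ IsMap H P f) (P : Subgroup Ω) : G.Hom P = H.Hom P :=
  Set.ext fun φ => ⟨fun hφ => mem_of_isMap ((h _ _).1 (isMap_toFn hφ)) fun x => (toFn_coe φ x).symm,
    fun hφ => mem_of_isMap ((h _ _).2 (isMap_toFn hφ)) fun x => (toFn_coe φ x).symm⟩

theorem component_congr (e : A = B) {G : FusionSystem A} {H : FusionSystem B}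
    (h : ∀ P, G.Hom P = H.Hom P) {C : FusionSystem T} (hC : C.IsComponentIn G p) :
    C.IsComponentIn H p := by
  subst e
  exact ext_of_hom h ▸ hC

/-- The centralizer system of a fully normalized subgroup. -/
theorem exists_centralizer_fn [Finite S] [Fact p.Prime] (hS : IsPGroup p S) (hF : F.IsSaturated p)
    {Q : Subgroup Ω} (hQ : F.IsFullyNormalized Q) :
    ∃ C : FusionSystem (centralizerIn S Q), C.IsSaturated p ∧ F.IsCentralizerSystem Q C := by
  obtain ⟨C, hC⟩ := exists_system_congr (NK_bot S Q) (kSys F Q ⊥ hQ.1)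
    (H := fun P => F.centralizerHom Q P) (kSys_bot_hom hQ.1)
  exact ⟨C, isSaturated_congr (NK_bot S Q) (fun P => (kSys_bot_hom hQ.1 P).trans (hC P).symm)
    (isSaturated_kSys hS hF (isFullyK_bot_iff.2 (fullyCentralized_of_fullyNormalized hS hF hQ))), hC⟩

/-- An `F`-isomorphism pulls subsystems of an invariant subsystem back into it. -/
theorem sub_of_transfer {E : FusionSystem R} (hE : E.IsInvariantIn F) {C : FusionSystem T}
    {C' : FusionSystem T'} (g : FusionIso.FIso C C') (hu : IsMap F T g.toFun)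
    (hui : IsMap F T' g.invFun) (hsub : C'.IsSubsystemOf E) : C.IsSubsystemOf E := by
  have hT'R : T' ≤ R := FusionLayer.le_base_of_sub hsub
  have hTR : T ≤ R := fun x hx => by
    rw [← g.left x hx]
    exact FusionChain.isMap_mem_of_stronglyClosed hE.2.1 hui (g.mem x hx) (hT'R (g.mem x hx))
  obtain ⟨α, hα, u₀, hu₀, he⟩ := FusionNormal.frattini_map hE hTR hu
  obtain ⟨ui₀, hui₀, hl, -⟩ := hu₀.isIso.symm
  intro P φ hφ
  have hPT : P ≤ T := (C.le_of_mem hφ).1
  have hfT : ∀ x ∈ P, toFn φ x ∈ T := fun x hx => (isMap_toFn hφ).mem hx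
  have hf' : IsMap E (img g.toFun P) fun y => g.toFun (toFn φ (g.invFun y)) :=
    FusionNormal.isMap_of_sub hsub (g.fwd P _ (isMap_toFn hφ))
  obtain ⟨g₂, hg₂, hg₂e⟩ := FusionNormal.transport_map hE hf'.le hf' (inv_mem hα)
  have hmem : ∀ x ∈ P, u₀ x ∈ img (autFn α⁻¹) (img g.toFun P) := fun x hx => by
    rw [← autFn_inv_self α (hu₀.mem (hPT hx)), ← he x (hPT hx)]
    exact Subgroup.subset_closure ⟨g.toFun x, Subgroup.subset_closure ⟨x, hx, rfl⟩, rfl⟩
  have hval : ∀ x ∈ P, g₂ (u₀ x) = u₀ (toFn φ x) := fun x hx => by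
    rw [← autFn_inv_self α (hu₀.mem (hPT hx)), ← he x (hPT hx),
      hg₂e _ (Subgroup.subset_closure ⟨x, hx, rfl⟩)]
    show autFn α⁻¹ (g.toFun (toFn φ (g.invFun (g.toFun x)))) = _
    rw [g.left x (hPT hx), he _ (hfT x hx), autFn_inv_self α (hu₀.mem (hfT x hx))]
  have h1 : IsMap E P fun x => g₂ (u₀ x) := (hu₀.mono hPT).comp hg₂ hmem
  have h2 : IsMap E P fun x => ui₀ (g₂ (u₀ x)) :=
    h1.comp hui₀.1 fun x hx => by
      rw [hval x hx]
      exact hu₀.mem_img (hfT x hx)
  exact mem_of_isMap h2 fun x => by rw [hval x x.2, hl _ (hfT x x.2), toFn_coe]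

theorem centralizer_map_transfer {V V' W W' : Subgroup Ω} {u ui : Ω → Ω} (hu : IsMap F W u)
    (hui : IsMap F W' ui) (hV : V ≤ W) (hC : centralizerIn S V ≤ W) (hV' : V' ≤ W')
    (hC' : centralizerIn S V' ≤ W') (h1 : ∀ x ∈ centralizerIn S V, u x ∈ centralizerIn S V')
    (h2 : ∀ x ∈ centralizerIn S V, ui (u x) = x) (h3 : ∀ y ∈ V', ui y ∈ V)
    (h4 : ∀ y ∈ V', u (ui y) = y) {K : FusionSystem (centralizerIn S V)}
    {K' : FusionSystem (centralizerIn S V')} (hVS : V ≤ S) (hV'S : V' ≤ S)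
    (hK : F.IsCentralizerSystem V K) (hK' : F.IsCentralizerSystem V' K') {P : Subgroup Ω}
    {f : Ω → Ω} (hf : IsMap K P f) : IsMap K' (img u P) fun y => u (f (ui y)) := by
  obtain ⟨hP, hfC, G, hG, hG1, hG2⟩ := (isMap_centralizer hVS hK).1 hf
  have hPW : P ≤ W := hP.trans hC
  have hle : img u P ≤ centralizerIn S V' := hu.img_le hPW fun x hx => h1 x (hP hx)
  have hpre : ∀ y ∈ img u P, ui y ∈ P := fun y hy => by
    obtain ⟨x, hx, rfl⟩ := (hu.mem_img_iff hPW).1 hy
    rwa [h2 x (hP hx)]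
  have hd : img u P ⊔ V' ≤ W' := sup_le (hle.trans hC') hV'
  have hm : ∀ y ∈ img u P ⊔ V', ui y ∈ P ⊔ V := fun y hy =>
    hui.forall_mem_sup (hle.trans hC') hV' (fun z hz => le_sup_left (b := V) (hpre z hz))
      (fun z hz => le_sup_right (a := P) (h3 z hz)) hy
  have hm' : ∀ x ∈ P ⊔ V, G x ∈ W := fun x hx =>
    hG.forall_mem_sup le_sup_left le_sup_right (fun z hz => hG1 z hz ▸ hC (hfC z hz))
      (fun z hz => (hG2 z hz).symm ▸ hV hz) hx
  refine (isMap_centralizer hV'S hK').2 ⟨hle, fun y hy => h1 _ (hfC _ (hpre y hy)),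
    fun y => u (G (ui y)), ((hui.mono hd).comp hG hm).comp hu fun y hy => hm' _ (hm y hy),
    fun y hy => ?_, fun y hy => ?_⟩
  · show u (G (ui y)) = _
    rw [hG1 _ (hpre y hy)]
  · show u (G (ui y)) = y
    rw [hG2 _ (h3 y hy), h4 y hy]

/-- An `F`-map carrying `V` to `V'` and `C_S(V)` onto `C_S(V')` gives an isomorphism of the centralizer
systems. -/
theorem centralizer_fiso [Finite S] {V V' W : Subgroup Ω} {u : Ω → Ω} (hu : IsMap F W u) (hV : V ≤ W)
    (hC : centralizerIn S V ≤ W) (hVV : img u V = V')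
    (hcard : Nat.card (centralizerIn S V') ≤ Nat.card (centralizerIn S V))
    {K : FusionSystem (centralizerIn S V)} {K' : FusionSystem (centralizerIn S V')}
    (hK : F.IsCentralizerSystem V K) (hK' : F.IsCentralizerSystem V' K') :
    ∃ e : FusionIso.FIso K K', IsMap F (centralizerIn S V) e.toFun ∧
      IsMap F (centralizerIn S V') e.invFun := by
  have hCC : img u (centralizerIn S V) = centralizerIn S V' :=
    eq_of_le_of_card (S := S) inf_le_left
      (hu.img_le hC fun x hx => map_centralizerIn hu hV hVV (hC hx) hx)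
      (by rw [hu.card_img hC]; exact hcard)
  obtain ⟨ui, hui, hl, hr⟩ := hu.isIso.symm
  have hV' : V' ≤ img u W := hVV ▸ hu.img_le hV fun x hx => hu.mem_img (hV hx)
  have hC' : centralizerIn S V' ≤ img u W :=
    hCC ▸ hu.img_le hC fun x hx => hu.mem_img (hC hx)
  have hmem : ∀ x ∈ centralizerIn S V, u x ∈ centralizerIn S V' := fun x hx =>
    map_centralizerIn hu hV hVV (hC hx) hx
  have hmem' : ∀ y ∈ centralizerIn S V', ui y ∈ centralizerIn S V := fun y hy => by
    rw [← hCC] at hy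
    obtain ⟨x, hx, rfl⟩ := (hu.mem_img_iff hC).1 hy
    rwa [hl x (hC hx)]
  have hVi : ∀ y ∈ V', ui y ∈ V := fun y hy => by
    rw [← hVV] at hy
    obtain ⟨x, hx, rfl⟩ := (hu.mem_img_iff hV).1 hy
    rwa [hl x (hV hx)]
  have hVu : ∀ x ∈ V, u x ∈ V' := fun x hx => hVV ▸ hu.mem_img hx
  have hVS : V ≤ S := hV.trans hu.le
  have hV'S : V' ≤ S := hV'.trans hu.img_le_S
  exact ⟨⟨u, ui, hmem, hmem', fun x hx => hl x (hC hx), fun y hy => hr y (hC' hy),
    fun x hx y hy => hu.map_mul (hC hx) (hC hy),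
    fun P f hf => centralizer_map_transfer hu hui.1 hV hC hV' hC' hmem (fun x hx => hl x (hC hx)) hVi
      (fun y hy => hr y (hV' hy)) hVS hV'S hK hK' hf,
    fun P f hf => centralizer_map_transfer hui.1 hu hV' hC' hV hC hmem' (fun y hy => hr y (hC' hy)) hVu
      (fun x hx => hl x (hV hx)) hV'S hVS hK' hK hf⟩, hu.mono hC, hui.1.mono hC'⟩

end Cfsg.Agent.FusionBalance
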