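import Cfsg.Agent.Lib.FusionBalance.CentNormal
import Cfsg.Agent.Lib.FusionBalance.NormalizerProd
import Cfsg.Agent.Lib.FusionBalance.Perfect
import Cfsg.Agent.Lib.FusionBalance.Transfer
import Cfsg.Agent.Lib.FusionLayer.SelfCentral

/-
Components of the centralizer of a fully normalized subgroup lie in the layer.
Main result (namespace `Cfsg.Agent.FusionBalance`): `component_cent_sub`.
-/

set_option autoImplicit false
set_option linter.unusedSectionVars false

namespace Cfsg.Agent.FusionBalance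

open Cfsg Cfsg.Agent.Fusion Cfsg.Agent.FusionNormalCent Cfsg.Agent.FusionLayer
open Cfsg.FusionSystem hiding inv_mem

variable {Ω : Type*} [Group Ω] {S R T : Subgroup Ω} {F : FusionSystem S} {p : ℕ} [Finite S]
  [Fact p.Prime]

theorem centralizerIn_normalizerIn (S Y : Subgroup Ω) :
    centralizerIn (normalizerIn S Y) Y = centralizerIn S Y :=
  le_antisymm (inf_le_inf_right _ inf_le_left)
    (le_inf (centralizerIn_le_normalizerIn S Y) inf_le_right)

/-- `C_N(Y) = C_F(Y)` for `N = N_F(Y)`. -/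
theorem centralizer_normalizer_hom {Y : Subgroup Ω} (hYS : Y ≤ S)
    {K : FusionSystem (centralizerIn S Y)} (hK : F.IsCentralizerSystem Y K)
    {N : FusionSystem (normalizerIn S Y)} (hN : F.IsNormalizerSystem Y N)
    {K₀ : FusionSystem (centralizerIn (normalizerIn S Y) Y)} (hK₀ : N.IsCentralizerSystem Y K₀)
    (P : Subgroup Ω) : K.Hom P = K₀.Hom P := by
  have hYn : Y ≤ normalizerIn S Y := le_normalizerIn hYS
  refine hom_eq_of_isMap (fun P f => ?_) P
  rw [isMap_centralizer hYS hK, isMap_centralizer hYn hK₀, centralizerIn_normalizerIn]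
  refine and_congr_right fun hP => and_congr_right fun hf => ⟨?_, ?_⟩
  · rintro ⟨g, hg, h1, h2⟩
    refine ⟨g, (isMap_normalizer_iff hYS hN).2 ⟨sup_le (hP.trans (centralizerIn_le_normalizerIn S Y)) hYn,
      fun x hx => hg.forall_mem_sup le_sup_left le_sup_right
        (fun z hz => h1 z hz ▸ centralizerIn_le_normalizerIn S Y (hf z hz))
        (fun z hz => (h2 z hz).symm ▸ hYn hz) hx,
      g, hg.mono (sup_le le_rfl le_sup_right), fun _ _ => rfl, fun y hy => (h2 y hy).symm ▸ hy⟩, h1, h2⟩
  · rintro ⟨g, hg, h1, h2⟩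
    obtain ⟨-, -, g', hg', e', -⟩ := (isMap_normalizer_iff hYS hN).1 hg
    exact ⟨g', hg'.mono le_sup_left, fun x hx => (e' x (le_sup_left (b := Y) hx)).trans (h1 x hx),
      fun y hy => (e' y (le_sup_right (a := P) hy)).trans (h2 y hy)⟩

/-- A component of `C_F(Y)` is a component of `N_F(Y)`. -/
theorem component_normalizer (hS : IsPGroup p S) (hF : F.IsSaturated p) {Y : Subgroup Ω}
    (hY : F.IsFullyNormalized Y) {K : FusionSystem (centralizerIn S Y)} (hKs : K.IsSaturated p)
    (hK : F.IsCentralizerSystem Y K) {N : FusionSystem (normalizerIn S Y)}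
    (hN : F.IsNormalizerSystem Y N) {C : FusionSystem T} (hC : C.IsComponentIn K p) :
    C.IsComponentIn N p := by
  have hNfin := finite_of_le (S := S) (P := normalizerIn S Y) inf_le_left
  have hSN : IsPGroup p (normalizerIn S Y) := hS.to_le inf_le_left
  have hNs := isSaturated_normalizer hS hF hY hN
  have hYN := Fusion.normal_in_normalizer hY.1 hN
  obtain ⟨K₀, hK₀s, hK₀⟩ := exists_centralizerT hSN hNs (Fusion.stronglyClosed_of_normal hYN)
  exact component_trans (component_congr (centralizerIn_normalizerIn S Y).symm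
    (centralizer_normalizer_hom hY.1 hK hN hK₀) hC) (centralizer_normal hSN hNs hYN hK₀s hK₀)

/-- A component of `N_F(Y)` centralizing `Y` is a component of `C_F(Y)`. -/
theorem component_centralizer (hS : IsPGroup p S) (hF : F.IsSaturated p) {Y : Subgroup Ω}
    (hY : F.IsFullyNormalized Y) {N : FusionSystem (normalizerIn S Y)}
    (hN : F.IsNormalizerSystem Y N) {C : FusionSystem T} (hC : C.IsComponentIn N p)
    (hT : T ≤ centralizerIn S Y) :
    ∃ K : FusionSystem (centralizerIn S Y),
      K.IsSaturated p ∧ F.IsCentralizerSystem Y K ∧ C.IsComponentIn K p := by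
  have hNfin := finite_of_le (S := S) (P := normalizerIn S Y) inf_le_left
  have hSN : IsPGroup p (normalizerIn S Y) := hS.to_le inf_le_left
  have hNs := isSaturated_normalizer hS hF hY hN
  have hYN := Fusion.normal_in_normalizer hY.1 hN
  obtain ⟨K₀, hK₀s, hK₀⟩ := exists_centralizerT hSN hNs (Fusion.stronglyClosed_of_normal hYN)
  obtain ⟨K, hKs, hK⟩ := exists_centralizer_fn hS hF hY
  exact ⟨K, hKs, hK, component_congr (centralizerIn_normalizerIn S Y)
    (fun P => (centralizer_normalizer_hom hY.1 hK hN hK₀ P).symm)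
    (component_of_normal hSN hC (centralizer_normal hSN hNs hYN hK₀s hK₀)
      ((centralizerIn_normalizerIn S Y).symm ▸ hT))⟩

/-- A conjugate of `V ≥ Y` with `V` strongly closed in `N_F(Y)` has no larger centralizer in `S`. -/
theorem card_centralizer_conj_le (hS : IsPGroup p S) (hF : F.IsSaturated p) {Y V : Subgroup Ω}
    (hY : F.IsFullyNormalized Y) {N : FusionSystem (normalizerIn S Y)}
    (hN : F.IsNormalizerSystem Y N) (hYV : Y ≤ V) (hV : N.StronglyClosed V) {u : Ω → Ω}
    (hu : IsMap F (normalizerIn S V) u) :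
    Nat.card (centralizerIn S (img u V)) ≤ Nat.card (centralizerIn S V) := by
  have hVN : V ≤ normalizerIn S Y := hV.1
  have hVS : V ≤ S := hVN.trans inf_le_left
  have hVV : V ≤ normalizerIn S V := le_normalizerIn hVS
  have hYu : Y ≤ normalizerIn S V := hYV.trans hVV
  obtain ⟨ψ, hψ, hψY, hψN⟩ := exists_normalizer_map hS
    (fullyAutomized_of_fullyNormalized hS hF hY) (receptive_of_fullyNormalized hS hF hY)
    (isConj_symm (isConj_iff.2 ⟨u, hu.mono hYu, rfl⟩) : F.IsConj (img u Y) Y)
  have huN : ∀ x ∈ V, u x ∈ normalizerIn S (img u Y) := fun x hx =>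
    map_normalizerIn hu hYu rfl (hVV hx) (hVN hx)
  have hY₂ : img u V ≤ normalizerIn S (img u Y) := hu.img_le hVV huN
  have hm : IsMap F V fun x => ψ (u x) := (hu.mono hVV).comp hψ huN
  have hmY : ∀ y ∈ Y, ψ (u y) ∈ Y := fun y hy =>
    hψY.le ((hψ.mem_img (hu.mem_img hy)))
  have hmV : ∀ x ∈ V, ψ (u x) ∈ V := by
    have hmN : IsMap N V fun x => ψ (u x) := (isMap_normalizer_iff hY.1 hN).2
      ⟨hVN, fun x hx => hψN _ (huN x hx), fun x => ψ (u x), hm.mono (sup_le le_rfl hYV),
        fun _ _ => rfl, hmY⟩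
    exact fun x hx => (Fusion.stronglyClosed_iff.1 hV).2 _ _ hmN x hx hx
  have hψV : img ψ (img u V) = V := by
    refine eq_of_le_of_card hVS (hψ.img_le hY₂ fun y hy => ?_)
      (by rw [hψ.card_img hY₂, hu.card_img hVV])
    obtain ⟨x, hx, rfl⟩ := (hu.mem_img_iff hVV).1 hy
    exact hmV x hx
  have hC : centralizerIn S (img u V) ≤ normalizerIn S (img u Y) := by
    refine le_trans ?_ (centralizerIn_le_normalizerIn S (img u Y))
    exact inf_le_inf_left _ (Subgroup.centralizer_le (hu.img_le hYu fun y hy => hu.mem_img (hYV hy)))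
  have := finite_of_le (S := S) (P := centralizerIn S V) inf_le_left
  rw [← hψ.card_img hC]
  exact Subgroup.card_le_of_le
    (hψ.img_le hC fun x hx => map_centralizerIn hψ hY₂ hψV (hC hx) hx)

variable {L : FusionSystem R}

theorem component_cent_sub_aux (hS : IsPGroup p S) (hF : F.IsSaturated p) (hL : L.IsLayerOf F p)
    (n : ℕ) : ∀ Y : Subgroup Ω, Nat.card S - Nat.card Y = n → F.IsFullyNormalized Y →
      ∀ K : FusionSystem (centralizerIn S Y), K.IsSaturated p → F.IsCentralizerSystem Y K →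
        ∀ (T : Subgroup Ω) (C : FusionSystem T), C.IsComponentIn K p → C.IsSubsystemOf L := by
  induction n using Nat.strong_induction_on with
  | _ n ih =>
  intro Y hn hY K hKs hK T C hC
  have hYS : Y ≤ S := hY.1
  have hKfin := finite_of_le (S := S) (P := centralizerIn S Y) inf_le_left
  have hSK : IsPGroup p (centralizerIn S Y) := hS.to_le inf_le_left
  have hNfin := finite_of_le (S := S) (P := normalizerIn S Y) inf_le_left
  have hSN : IsPGroup p (normalizerIn S Y) := hS.to_le inf_le_left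
  obtain ⟨D, hD, -, hprod⟩ := exists_fitting hS hF hL
  have h : FusionProdR.PSys F p D := ⟨hS, hF, hD⟩
  obtain ⟨N, hN⟩ := exists_normalizerSystem (F := F) hYS
  have hNs := isSaturated_normalizer hS hF hY hN
  have hCN := component_normalizer hS hF hY hKs hK hN hC
  obtain ⟨M, hM, hMsub⟩ := exists_normalizer_normal h hY hN
  rcases dichotomy hSN hCN hM with h1 | h1
  · exact sub_layer_of_fitting hS hF hL hprod hC.2.1 hC.2.2.1
      (sub_of_prod h le_sup_left (prod_le h hY) hC.2.1 hC.2.2.1
        fun P φ hφ => hMsub P (h1 P hφ)).2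
  obtain ⟨-, hMT⟩ := component_centralizes hSN hCN hM h1
  have hRS : F.core ⊔ R ⊔ Y ≤ S := prod_le h hY
  have hVn : normalizerIn (F.core ⊔ R ⊔ Y) Y ≤ normalizerIn S Y := inf_le_inf_right _ hRS
  have hYV : Y ≤ normalizerIn (F.core ⊔ R ⊔ Y) Y := le_normalizerIn le_sup_right
  by_cases hVY : normalizerIn (F.core ⊔ R ⊔ Y) Y ≤ Y
  · -- `Y` contains the generalized Fitting group
    exfalso
    have hUY : F.core ⊔ R ≤ Y := by
      by_contra hne
      exact (lt_normalizerIn hS hRS
        (lt_of_le_of_ne le_sup_right fun e => hne (e.symm ▸ le_sup_left))).not_ge hVY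
    obtain ⟨CU, hCUs, hCU⟩ := exists_centralizerT hS hF hD.1.2.2.2.1
    have hTK := component_le_S hC
    have hcen : centralizerIn S Y ≤ centralizerIn S (F.core ⊔ R) :=
      inf_le_inf_left _ (Subgroup.centralizer_le hUY)
    have hsub : C.IsSubsystemOf CU := fun P φ hφ => by
      have hf : IsMap K P (toFn φ) :=
        FusionNormal.isMap_of_sub (sub_of_subnormal hC.1) (isMap_toFn hφ)
      obtain ⟨hP, hfK, g, hg, e1, e2⟩ := (isMap_centralizer hYS hK).1 hf
      exact mem_of_isMap ((isMap_centralizer hD.1.2.2.2.1.1 hCU).2 ⟨hP.trans hcen,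
        fun x hx => hcen (hfK x hx), g, hg.mono (sup_le_sup_left hUY P), e1,
        fun y hy => e2 y (hUY hy)⟩) fun x => (toFn_coe φ x).symm
    have hTY : T ≤ Y := by
      refine (hC.2.2.1.ge.trans ?_).trans hUY
      refine (FusionNormal.hyperfocal_mono hsub (hTK.trans hcen)).trans ?_
      exact ((FusionChain.hyperfocal_le_focal p).trans (focal_le_cent hD hS hF hCU)).trans
        (cent_le_group hS hF hL rfl hD)
    exact component_not_comm hSK hC fun x hx => mem_centralizerIn.2
      ⟨hTK hx, fun t ht => (mem_centralizerIn.1 (hTK hx)).2 t (hTY ht)⟩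
  -- pass to the centralizer of `V = N_{UY}(Y)`
  have hVc : N.StronglyClosed (normalizerIn (F.core ⊔ R ⊔ Y) Y) := hM.1.2.2.2.1
  have hVS : normalizerIn (F.core ⊔ R ⊔ Y) Y ≤ S := inf_le_left.trans hRS
  obtain ⟨CV, hCVs, hCV⟩ := exists_centralizerT hSN hNs hVc
  have hCfin := finite_of_le (S := normalizerIn S Y)
    (P := centralizerIn (normalizerIn S Y) (normalizerIn (F.core ⊔ R ⊔ Y) Y)) inf_le_left
  have hSC : IsPGroup p (centralizerIn (normalizerIn S Y) (normalizerIn (F.core ⊔ R ⊔ Y) Y)) :=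
    hSN.to_le inf_le_left
  have hTc := centralizes_le_cent hM hSN hNs hMT
  have hhyp := (FusionChain.hyperfocal_le_focal p).trans (focal_le_cent hM hSN hNs hCV)
  obtain ⟨D', hD's, hD'i⟩ := FusionPIndex.exists_pPowerIndex hSC hCVs (cent_le hM) hhyp
  have hD'N := normal_of_cent_self hSN hNs hM hCVs hCV hD's hD'i
  have hD'V := FusionPIndex.isNormalIn_pPowerIndex hSC hCVs (cent_le hM)
    (normal_cent_in_centralizer hM) hhyp hD's hD'i
  have hCCV := component_trans (component_of_normal hSN hCN hD'N hTc) hD'V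
  -- the centralizer of `V` in `F`
  obtain ⟨K', hK'⟩ := exists_centralizerSystem (F := F) hVS
  have e : centralizerIn (normalizerIn S Y) (normalizerIn (F.core ⊔ R ⊔ Y) Y) =
      centralizerIn S (normalizerIn (F.core ⊔ R ⊔ Y) Y) :=
    le_antisymm (inf_le_inf_right _ inf_le_left)
      (le_inf ((inf_le_inf_left _ (Subgroup.centralizer_le hYV)).trans
        (centralizerIn_le_normalizerIn S Y)) inf_le_right)
  have hiff : ∀ P f, IsMap CV P f ↔ IsMap K' P f := fun P f => by
    rw [isMap_centralizer hVn hCV, isMap_centralizer hVS hK', e]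
    refine and_congr_right fun hP => and_congr_right fun hf => ⟨?_, ?_⟩
    · rintro ⟨g, hg, h1, h2⟩
      obtain ⟨-, -, g', hg', e', -⟩ := (isMap_normalizer_iff hYS hN).1 hg
      exact ⟨g', hg'.mono le_sup_left, fun x hx => (e' x (Subgroup.mem_sup_left hx)).trans (h1 x hx),
        fun y hy => (e' y (Subgroup.mem_sup_right hy)).trans (h2 y hy)⟩
    · rintro ⟨g, hg, h1, h2⟩
      refine ⟨g, (isMap_normalizer_iff hYS hN).2
        ⟨sup_le ((hP.trans e.ge).trans inf_le_left) hVn,
          fun x hx => hg.forall_mem_sup le_sup_left le_sup_right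
            (fun z hz => h1 z hz ▸ (e.ge (hf z hz)).1)
            (fun z hz => (h2 z hz).symm ▸ hVn hz) hx,
          g, hg.mono (sup_le le_rfl (hYV.trans le_sup_right)), fun _ _ => rfl,
          fun y hy => (h2 y (hYV hy)).symm ▸ hy⟩, h1, h2⟩
  have hK's : K'.IsSaturated p := isSaturated_congr e (hom_eq_of_isMap hiff) hCVs
  have hCK' := component_congr e (hom_eq_of_isMap hiff) hCCV
  -- pass to a fully normalized conjugate
  obtain ⟨Y₂, u, hY₂, hu, huV, -⟩ := exists_fullyNormalized_map hS hF hVS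
  obtain ⟨K₂, hK₂s, hK₂⟩ := exists_centralizer_fn hS hF hY₂
  have hVV : normalizerIn (F.core ⊔ R ⊔ Y) Y ≤ normalizerIn S (normalizerIn (F.core ⊔ R ⊔ Y) Y) :=
    le_normalizerIn hVS
  obtain ⟨g, hg1, hg2⟩ := centralizer_fiso hu hVV (centralizerIn_le_normalizerIn _ _) huV
    (huV ▸ card_centralizer_conj_le hS hF hY hN hYV hVc hu) hK' hK₂
  obtain ⟨T₂, C₂, g', e1, e2, hC₂⟩ := FusionIso.exists_component hCK' g hK₂s
  have hcard : Nat.card Y < Nat.card (normalizerIn (F.core ⊔ R ⊔ Y) Y) := by
    by_contra hle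
    exact hVY (eq_of_le_of_card hVS hYV (not_lt.1 hle)).ge
  have hfin := finite_of_le hVS
  have hY₂card : Nat.card Y₂ = Nat.card (normalizerIn (F.core ⊔ R ⊔ Y) Y) :=
    huV ▸ hu.card_img hVV
  have hle : Nat.card (normalizerIn (F.core ⊔ R ⊔ Y) Y) ≤ Nat.card S := Subgroup.card_le_of_le hVS
  have hCL : C₂.IsSubsystemOf L :=
    ih (Nat.card S - Nat.card Y₂) (by omega) Y₂ rfl hY₂ K₂ hK₂s hK₂ T₂ C₂ hC₂
  refine sub_of_transfer hL.1.1.2.2 g' ?_ ?_ hCL
  · exact e1 ▸ hg1.mono (component_le_S hCK')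
  · exact e2 ▸ hg2.mono (component_le_S hC₂)

/-- A component of the centralizer of a fully normalized subgroup lies in the layer. -/
theorem component_cent_sub (hS : IsPGroup p S) (hF : F.IsSaturated p) (hL : L.IsLayerOf F p)
    {Y : Subgroup Ω} (hY : F.IsFullyNormalized Y) {K : FusionSystem (centralizerIn S Y)}
    (hKs : K.IsSaturated p) (hK : F.IsCentralizerSystem Y K) {C : FusionSystem T}
    (hC : C.IsComponentIn K p) : C.IsSubsystemOf L :=
  component_cent_sub_aux hS hF hL _ Y rfl hY K hKs hK T C hC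

end Cfsg.Agent.FusionBalance
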